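import Cfsg.Agent.Lib.Helper33.KS.KDefs
import Cfsg.Agent.Lib.Helper55.KS.GA
import Cfsg.Agent.Lib.Helper55.KS.GC

set_option autoImplicit false

namespace Cfsg.Agent.Lib.Helper70.KS

open Subgroup
open Cfsg.Agent.Lib.Helper22 (conjS mem_conjS conjS_mem conjS_mul conjS_one conjS_eq_of_mem_normalizer)
open Cfsg.Agent.Lib.Helper48 (ZN MS)
open Cfsg.Agent.Lib.Helper33.KS

universe u

variable {G : Type u} [Group G] [Finite G] {M T K L : Subgroup G}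

theorem kd_sylow (zn : ZN G) (hO : Cfsg.pCore 2 G = ⊥) (S : Sylow 2 G)
    (hK : Cfsg.IsJComponent (S : Subgroup G) K) (hL : Cfsg.IsMaximalTwoLocal L) (hKL : K ≤ L)
    (hSL : (S : Subgroup G) ≤ L) :
    KD (normalizer (JT (S : Subgroup G) : Set G)) (S : Subgroup G) K L := by
  have ms : MS (normalizer (JT (S : Subgroup G) : Set G)) (S : Subgroup G) :=
    Cfsg.Agent.Lib.Helper55.KS.ms_sylow zn S
  have hKM : ¬ K ≤ normalizer (JT (S : Subgroup G) : Set G) :=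
    Cfsg.Agent.Lib.Helper55.KS.not_le_normalizer_J S.2 hK
  have hKJL : K ⊔ JT (S : Subgroup G) ≤ L :=
    sup_le hKL ((Cfsg.Agent.Lib.Helper48.thompsonSubgroupOf_le' 2 _).trans hSL)
  obtain ⟨L₀, hL₀, hNL₀⟩ := Cfsg.Agent.Lib.Helper48.exists_maximalTwoLocal_ge
    (⟨_, Cfsg.Agent.Lib.Helper48.isPGroup_wOf hK, Cfsg.Agent.Lib.Helper48.wOf_ne_bot hK, rfl⟩ :
      Cfsg.IsTwoLocal (Subgroup.normalizer (Cfsg.wOf K : Set G)))
  have hLL₀ : L = L₀ := ms.unique hK hKM hL₀ hNL₀ hL hKJL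
  refine ⟨ms, hO, hK, hKM, hL, hKJL,
    Cfsg.Agent.Lib.Helper48.isSylowTwoIn_of (Cfsg.Agent.Lib.Helper47.isSylowIn_of_sylow S hSL),
    ?_, ?_⟩
  · intro L' hL' hKL'
    rw [hLL₀]
    exact ms.unique hK hKM hL₀ hNL₀ hL' hKL'
  · intro T₁ N hT₁ _ hST₁ hnot
    exact absurd (S.is_maximal' hT₁ hST₁).le hnot

theorem dichotomy (hII : CaseII G) (S : Sylow 2 G)
    (h : KD (normalizer (JT (S : Subgroup G) : Set G)) (S : Subgroup G) K L) :
    (∃ g ∈ normalizer (JT (S : Subgroup G) : Set G), g ∉ L) ∨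
      ∃ K' L', KD (normalizer (JT (S : Subgroup G) : Set G)) (S : Subgroup G) K' L' ∧ L' ≠ L := by
  have zn := h.ms.zn
  have hSL : (S : Subgroup G) ≤ L := h.hTL.1
  have hLN : ¬ L ≤ normalizer (JT (S : Subgroup G) : Set G) :=
    fun hle => h.hKM ((le_sup_left.trans h.hKL).trans hle)
  obtain ⟨H, hH, hSH, hHL⟩ : ∃ H : Subgroup G, Cfsg.IsMaximalTwoLocal H ∧ (S : Subgroup G) ≤ H ∧
      H ≠ L := by
    by_contra hcon
    push Not at hcon
    exact hLN (hII S L h.hL hSL hcon)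
  have hsyl := Cfsg.Agent.Lib.Helper47.isSylowIn_of_sylow S hSH
  by_cases hJ : JT (S : Subgroup G) ≤ Cfsg.pCoreOf 2 H
  · left
    have h1 := Cfsg.Agent.Lib.Helper48.J_eq_of_le_sylow hsyl
      (Cfsg.Agent.Lib.Helper49.pCoreOf_isPGroup 2 H) (Cfsg.Agent.Lib.Helper49.pCoreOf_le 2 H) hJ
    have h2 : H ≤ normalizer (JT (S : Subgroup G) : Set G) := by
      refine ((Cfsg.Agent.Lib.Helper49.le_normalizer_pCoreOf 2 H).trans
        (Cfsg.Agent.Lib.Helper48.normalizer_le_normalizer_thompsonSubgroupOf 2 _)).trans ?_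
      rw [h1]
    have h3 : Cfsg.IsTwoLocal (normalizer (JT (S : Subgroup G) : Set G)) :=
      ⟨_, S.2.to_le (Cfsg.Agent.Lib.Helper48.thompsonSubgroupOf_le' 2 _),
        Cfsg.Agent.Lib.Helper48.J_ne_bot S.2 h.ms.hT1, rfl⟩
    have h4 : normalizer (JT (S : Subgroup G) : Set G) = H := hH.2 _ h3 h2
    have h5 : ¬ H ≤ L := fun hle => hHL (hH.2 L h.hL.1 hle).symm
    obtain ⟨g, hgH, hgL⟩ := SetLike.not_le_iff_exists.1 h5
    exact ⟨g, h4 ▸ hgH, hgL⟩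
  · right
    have hmem : H ∈ Cfsg.jOvergroups (S : Subgroup G) := by
      refine ⟨Cfsg.Agent.Lib.Helper48.isSylowTwoIn_of hsyl, hJ, ?_⟩
      obtain ⟨U, hU2, hU1, rfl⟩ := hH.1
      exact Cfsg.Agent.Lib.Helper48.centralizer_pCoreOf_le zn hU2 hU1
    obtain ⟨K', hK', hK'H⟩ := Cfsg.Agent.Lib.Helper48.exists_comp_of_mem zn h.ms.hT1 hmem
    exact ⟨K', H, kd_sylow zn h.hO S hK' hH hK'H hSH, hHL⟩

end Cfsg.Agent.Lib.Helper70.KS
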