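import Cfsg.Agent.Lib.Helper33.KS.KDefs
import Cfsg.Agent.Lib.Helper55.KS.GA
import Cfsg.Agent.Lib.Helper55.KS.GB
import Cfsg.Agent.Lib.Helper55.KS.B1
import Cfsg.Agent.Lib.Helper1.KS.A3

set_option autoImplicit false

namespace Cfsg.Agent.Lib.Helper70.KS

open Subgroup
open Cfsg.Agent.Lib.Helper22 (conjS mem_conjS conjS_mem conjS_mul conjS_one conjS_eq_of_mem_normalizer)
open Cfsg.Agent.Lib.Helper48 (ZN MS)
open Cfsg.Agent.Lib.Helper33.KS
open Cfsg.Agent.Lib.Helper55.KS (mem_OZ OZ_sq OZ_comm OZ_le_Z0 OZ_ne_bot)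

universe u

variable {G : Type u} [Group G] [Finite G] {M T K L : Subgroup G}

omit [Finite G] in
theorem mem_zpowers_of_sq {z w : G} (hz : z * z = 1) (hw : w ∈ zpowers z) : w = 1 ∨ w = z := by
  obtain ⟨k, rfl⟩ := mem_zpowers_iff.1 hw
  have hz2 : z ^ (2 : ℤ) = 1 := by
    rw [show (2 : ℤ) = 1 + 1 from rfl, zpow_add, zpow_one, hz]
  rcases Int.even_or_odd' k with ⟨m, rfl | rfl⟩
  · left; rw [zpow_mul, hz2, one_zpow]
  · right; rw [zpow_add, zpow_mul, hz2, one_zpow, one_mul, zpow_one]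

theorem card_mul_card_le {A B C : Subgroup G} (hA : A ≤ C) (hB : B ≤ C) (hAB : A ⊓ B = ⊥) :
    Nat.card A * Nat.card B ≤ Nat.card C := by
  rw [← Nat.card_prod]
  refine Nat.card_le_card_of_injective
    (fun x : A × B => (⟨x.1 * x.2, C.mul_mem (hA x.1.2) (hB x.2.2)⟩ : C)) ?_
  rintro ⟨a, b⟩ ⟨a', b'⟩ hab
  have h1 : (a : G) * b = a' * b' := congrArg Subtype.val hab
  have h2 : (a' : G)⁻¹ * a = b' * (b : G)⁻¹ := by
    rw [inv_mul_eq_iff_eq_mul, ← mul_assoc, eq_mul_inv_iff_mul_eq, h1]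
  have h3 : (a' : G)⁻¹ * a ∈ A ⊓ B :=
    ⟨A.mul_mem (A.inv_mem a'.2) a.2, h2 ▸ B.mul_mem b'.2 (B.inv_mem b.2)⟩
  rw [hAB, mem_bot] at h3
  have h4 : (a : G) = a' := (inv_mul_eq_one.1 h3).symm
  have h5 : (b : G) = b' := by
    rw [h4] at h1
    exact mul_left_cancel h1
  exact Prod.ext (Subtype.ext h4) (Subtype.ext h5)

/-- `eq_case`, with `exists_second` as a hypothesis -/
theorem eq_case_aux (S : Sylow 2 G)
    (h : KD (normalizer (JT (S : Subgroup G) : Set G)) (S : Subgroup G) K L)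
    (hex : ∃ Y' : Subgroup G, Y' ≤ Z0 (S : Subgroup G) ∧
      Nat.card (Z0 (S : Subgroup G)) = 2 * Nat.card Y' ∧
      YY (S : Subgroup G) K ⊓ Y' = ⊥ ∧
      (∀ y' ∈ Y', y' ≠ 1 → ¬ centralizer ({y'} : Set G) ≤ normalizer ((S : Subgroup G) : Set G)) ∧
      ∀ t ∈ (S : Subgroup G), ∀ y ∈ YY (S : Subgroup G) K, y ≠ 1 → t * y * t⁻¹ ∉ Y') :
    Cfsg.omegaCenterOf (S : Subgroup G) = Z0 (S : Subgroup G) ∧
      (Nat.card (Z0 (S : Subgroup G)) = 2 ∨ Nat.card (Z0 (S : Subgroup G)) = 4) := by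
  obtain ⟨Y', hY', hcard', hdisj, hcent, hconj⟩ := hex
  have zn := h.ms.zn
  have hcard := Cfsg.Agent.Lib.Helper1.KS.card_Z0 zn S.2 h.ms.hT1 h.hK
  have hNS : normalizer ((S : Subgroup G) : Set G) ≤ normalizer (JT (S : Subgroup G) : Set G) :=
    Cfsg.Agent.Lib.Helper48.normalizer_le_normalizer_thompsonSubgroupOf 2 _
  have hZ0J : Z0 (S : Subgroup G) ≤ JT (S : Subgroup G) := fun a ha =>
    (mem_inf.mp (Cfsg.Agent.Lib.Helper48.omegaCenterOf_le _ ha)).1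
  have hJS : JT (S : Subgroup G) ≤ S := Cfsg.Agent.Lib.Helper48.thompsonSubgroupOf_le' 2 _
  have hZ1 : Cfsg.omegaCenterOf (S : Subgroup G) ≠ ⊥ := OZ_ne_bot S.2 h.ms.hT1
  refine Cfsg.Agent.Lib.Helper55.KS.abs_TeqS (S := (S : Subgroup G)) (Y := YY (S : Subgroup G) K)
    (Y' := Y') (fun a ha => OZ_sq ha) (fun a ha b hb => OZ_comm hb (hZ0J ha)) inf_le_left hY'
    hcard.le hcard'.le hdisj ?_ (OZ_le_Z0 S.2) hZ1 (fun t ht z hz => OZ_comm hz ht)
    (fun a ha hc => mem_OZ (hJS (hZ0J ha)) hc (OZ_sq ha)) hconj ?_ ?_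
  · intro t ht
    exact conjS_eq_of_mem_normalizer
      (Cfsg.Agent.Lib.Helper48.normalizer_le_normalizer_omegaCenterOf _ (hNS (le_normalizer ht)))
  · intro hle
    apply h.hKM
    refine le_trans ?_ ((zn.hZ S).trans hNS)
    intro k hk
    rw [mem_centralizer_iff]
    intro z hz
    exact (mem_centralizer_iff.1 (mem_inf.1 (hle hz)).2 k hk).symm
  · intro hle
    have hpos : 0 < Nat.card (YY (S : Subgroup G) K) := Nat.card_pos
    have h1 := card_mul_card_le (inf_le_left : YY (S : Subgroup G) K ≤ Z0 (S : Subgroup G)) hY' hdisj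
    have hY'2 : Nat.card Y' ≤ 2 := by
      rw [hcard, mul_comm 2] at h1
      exact Nat.le_of_mul_le_mul_left h1 hpos
    obtain ⟨z, hz, hz1⟩ : ∃ z : G, z ∈ Cfsg.omegaCenterOf (S : Subgroup G) ∧ z ≠ 1 := by
      obtain ⟨a, ha⟩ := (Subgroup.ne_bot_iff_exists_ne_one).1 hZ1
      exact ⟨a, a.2, fun h0 => ha (Subtype.ext h0)⟩
    have hzz : z * z = 1 := OZ_sq hz
    have ho : orderOf z = 2 := orderOf_eq_prime (by rw [pow_two]; exact hzz) hz1
    have hzY' : zpowers z = Y' := by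
      apply Subgroup.eq_of_le_of_card_ge
      · rw [zpowers_le]; exact hle hz
      · rw [Nat.card_zpowers, ho]; exact hY'2
    apply hcent z (hle hz) hz1
    refine le_trans ?_ (zn.hZ S)
    intro g hg
    rw [mem_centralizer_iff] at hg ⊢
    intro w hw
    have hw' : w ∈ zpowers z := by rw [hzY']; exact hle hw
    rcases mem_zpowers_of_sq hzz hw' with rfl | rfl
    · simp
    · exact hg _ rfl

end Cfsg.Agent.Lib.Helper70.KS
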