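import Cfsg.Agent.Lib.Helper70.KS.C1
import Cfsg.Agent.Lib.Helper33.KS.A1

set_option autoImplicit false

namespace Cfsg.Agent.Lib.Helper70.KS

open Subgroup
open Cfsg.Agent.Lib.Helper22 (conjS mem_conjS conjS_mem conjS_mul conjS_one conjS_eq_of_mem_normalizer)
open Cfsg.Agent.Lib.Helper48 (ZN MS)
open Cfsg.Agent.Lib.Helper33.KS

universe u

variable {G : Type u} [Group G] [Finite G] {M T K L : Subgroup G}

/-- `exists_second_kd`, with the first half of `eq_case` as a hypothesis -/
theorem exists_second_kd_aux (hII : CaseII G) (S : Sylow 2 G)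
    (h : KD (normalizer (JT (S : Subgroup G) : Set G)) (S : Subgroup G) K L)
    (heq : Cfsg.omegaCenterOf (S : Subgroup G) = Z0 (S : Subgroup G)) :
    ∃ K' L', KD (normalizer (JT (S : Subgroup G) : Set G)) (S : Subgroup G) K' L' ∧ L' ≠ L := by
  rcases dichotomy hII S h with ⟨g, hg, hgL⟩ | h2
  · have h1 : g ∈ normalizer (Cfsg.omegaCenterOf (S : Subgroup G) : Set G) := by
      rw [heq]
      exact Cfsg.Agent.Lib.Helper48.normalizer_le_normalizer_omegaCenterOf _ hg
    have h2 : g ∈ normalizer ((S : Subgroup G) : Set G) :=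
      Cfsg.Agent.Lib.Helper55.KS.normalizer_OZ_le h.ms.zn S h1
    refine ⟨conjS g K, conjS g L, kd_conj h hg h2, ?_⟩
    intro hc
    apply hgL
    rw [← Cfsg.Agent.Lib.Helper55.KS.normalizer_eq_of_max h.hL,
      Cfsg.Agent.Lib.Helper50.mem_normalizer_iff_map_conj]
    exact hc
  · exact h2

end Cfsg.Agent.Lib.Helper70.KS
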